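import Groth.Agent.CAlgH3.RegularLocal
import Groth.Agent.CAlgMisc2.Normal
import Groth.Agent.DimLib.Algebra
import Mathlib.RingTheory.Invariant.Basic
import Mathlib.RingTheory.Ideal.GoingUp
import Mathlib.GroupTheory.NoncommPiCoprod
import Mathlib.Algebra.Algebra.Subalgebra.Pointwise
import Mathlib.Algebra.BigOperators.GroupWithZero.Finset

/-!
# Abelian covers generated by the fixed rings of complementary inertia subgroups

`iSup_fix_eq_top`: the invariant rings `A ^ (N j)` generate `A` when their Galois coordinates exist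
at every height one prime of the base.
-/

set_option autoImplicit false
set_option linter.unusedSectionVars false

noncomputable section

open scoped Pointwise

universe u v w

namespace Groth.Agent.WildLib5

variable (R : Type u) [CommRing R] (A : Type v) [CommRing A] [Algebra R A]
variable {H : Type w} [Group H] [MulSemiringAction H A] [SMulCommClass H R A]
variable {n : ℕ} (Gi : Fin n → Subgroup H)

/-- The complementary subgroup. -/
abbrev compl (j : Fin n) : Subgroup H :=
  ⨆ k ∈ (Finset.univ.erase j : Finset (Fin n)), Gi k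

/-- The fixed ring of the complementary subgroup. -/
abbrev fx (j : Fin n) : Subalgebra R A := FixedPoints.subalgebra R A ↥(compl Gi j)

variable {R A Gi}

theorem mem_fix_iff (K : Subgroup H) (a : A) :
    a ∈ FixedPoints.subalgebra R A ↥K ↔ K ≤ MulAction.stabilizer H a :=
  ⟨fun h k hk => h ⟨k, hk⟩, fun h k => h k.2⟩

theorem le_compl {j k : Fin n} (h : k ≠ j) : Gi k ≤ compl Gi j :=
  le_iSup₂ (f := fun k (_ : k ∈ (Finset.univ.erase j : Finset (Fin n))) => Gi k) k
    (Finset.mem_erase.mpr ⟨h, Finset.mem_univ k⟩)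

theorem group_facts [Finite H] (hcomm : ∀ g h : H, g * h = h * g) (p : ℕ)
    (hcard : Nat.card H = p ^ n) (hGi : ∀ i, Nat.card (Gi i) = p) (hsup : (⨆ i, Gi i) = ⊤) :
    (∀ j, Gi j ⊔ compl Gi j = ⊤) ∧ ∀ j, ∀ g ∈ Gi j, g ∈ compl Gi j → g = 1 := by
  classical
  have hc : Pairwise fun i j => ∀ x y : H, x ∈ Gi i → y ∈ Gi j → Commute x y :=
    fun i j _ x y _ _ => hcomm x y
  let φ := Subgroup.noncommPiCoprod hc
  haveI : ∀ i, Fintype (Gi i) := fun i => Fintype.ofFinite _
  haveI : Fintype H := Fintype.ofFinite H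
  have hsurj : Function.Surjective φ := by
    rw [← MonoidHom.range_eq_top, Subgroup.noncommPiCoprod_range, hsup]
  have hbij : Function.Bijective φ := by
    rw [Fintype.bijective_iff_surjective_and_card]
    refine ⟨hsurj, ?_⟩
    rw [← Nat.card_eq_fintype_card, ← Nat.card_eq_fintype_card, Nat.card_pi, hcard,
      Finset.prod_congr rfl (fun i _ => hGi i), Finset.prod_const, Finset.card_univ,
      Fintype.card_fin]
  refine ⟨fun j => ?_, fun j g hg hg' => ?_⟩
  · rw [← top_le_iff, ← hsup]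
    refine iSup_le fun k => ?_
    rcases eq_or_ne k j with rfl | h
    · exact le_sup_left
    · exact (le_compl h).trans le_sup_right
  · have hle : compl Gi j ≤ (MonoidHom.ker (Pi.evalMonoidHom (fun i => ↥(Gi i)) j)).map φ := by
      refine iSup₂_le fun k hk => ?_
      intro x hx
      refine ⟨Pi.mulSingle k ⟨x, hx⟩, ?_, Subgroup.noncommPiCoprod_mulSingle ..⟩
      rw [SetLike.mem_coe, MonoidHom.mem_ker]
      exact Pi.mulSingle_eq_of_ne (Finset.ne_of_mem_erase hk).symm _
    obtain ⟨f, hf, hfg⟩ := hle hg'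
    have h1 : f = Pi.mulSingle j ⟨g, hg⟩ :=
      hbij.1 (by rw [hfg]; exact (Subgroup.noncommPiCoprod_mulSingle (hcomm := hc) j ⟨g, hg⟩).symm)
    rw [SetLike.mem_coe, MonoidHom.mem_ker] at hf
    rw [h1] at hf
    simpa [Subtype.ext_iff] using hf

section Coordinates

variable [Finite H]

/-- The trace over a subgroup. -/
def tr (K : Subgroup H) (a : A) : A :=
  letI := Fintype.ofFinite K
  ∑ σ : K, (σ : H) • a

theorem tr_fixed (K : Subgroup H) (a : A) : K ≤ MulAction.stabilizer H (tr K a) := by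
  intro k hk
  letI := Fintype.ofFinite K
  rw [MulAction.mem_stabilizer_iff, tr, Finset.smul_sum]
  simp only [smul_smul]
  exact Fintype.sum_equiv (Equiv.mulLeft ⟨k, hk⟩) _ _ fun σ => rfl

theorem tr_fixed_of_commute (hcomm : ∀ g h : H, g * h = h * g) (K L : Subgroup H) (a : A)
    (ha : L ≤ MulAction.stabilizer H a) : L ≤ MulAction.stabilizer H (tr K a) := by
  intro k hk
  letI := Fintype.ofFinite K
  rw [MulAction.mem_stabilizer_iff, tr, Finset.smul_sum]
  exact Finset.sum_congr rfl fun σ _ => by rw [smul_smul, hcomm, ← smul_smul, ha hk]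

/-- Galois coordinates of `B` for the group `K`, up to `s`. -/
def HasCoords (B : Subalgebra R A) (K : Subgroup H) (s : R) : Prop :=
  ∃ (m : ℕ) (x y : Fin m → B), ∀ a : A, s • a = ∑ l, (x l : A) * tr K ((y l : A) * a)

/-- The functions `σ ↦ Σ x σ(y)`. -/
def pairSpan (B : Subalgebra R A) (K : Subgroup H) : Submodule R (K → A) :=
  Submodule.span R (Set.range fun q : B × B => fun σ : K => (q.1 : A) * (σ : H) • (q.2 : A))

theorem mul_mem_pairSpan (B : Subalgebra R A) (K : Subgroup H) {f g : K → A}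
    (hf : f ∈ pairSpan B K) (hg : g ∈ pairSpan B K) : f * g ∈ pairSpan B K := by
  induction hf using Submodule.span_induction with
  | mem f hf =>
    induction hg using Submodule.span_induction with
    | mem g hg =>
      obtain ⟨q, rfl⟩ := hf
      obtain ⟨q', rfl⟩ := hg
      refine Submodule.subset_span ⟨(q.1 * q'.1, q.2 * q'.2), ?_⟩
      funext σ
      simp only [Pi.mul_apply, Subalgebra.coe_mul, smul_mul']
      ring
    | zero => rw [mul_zero]; exact Submodule.zero_mem _
    | add a b _ _ ha hb => rw [mul_add]; exact Submodule.add_mem _ ha hb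
    | smul r a _ ha => rw [mul_smul_comm]; exact Submodule.smul_mem _ r ha
  | zero => rw [zero_mul]; exact Submodule.zero_mem _
  | add a b _ _ ha hb => rw [add_mul]; exact Submodule.add_mem _ ha hb
  | smul r a _ ha => rw [smul_mul_assoc]; exact Submodule.smul_mem _ r ha

theorem sum_mem_pairSpan (B : Subalgebra R A) (K : Subgroup H) {m : ℕ} (x y : Fin m → B) :
    (fun σ : K => ∑ l, (x l : A) * (σ : H) • (y l : A)) ∈ pairSpan B K := by
  rw [show (fun σ : K => ∑ l, (x l : A) * (σ : H) • (y l : A)) =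
      ∑ l, fun σ : K => (x l : A) * (σ : H) • (y l : A) from by funext σ; simp]
  exact Submodule.sum_mem _ fun l _ => Submodule.subset_span ⟨(x l, y l), rfl⟩

/-- Galois coordinates exist when the elements of `K` act differently on `B` modulo the primes over
`p`. -/
theorem exists_coords [Algebra.IsIntegral R A] (B : Subalgebra R A) (K : Subgroup H)
    (hB : ∀ g ∈ K, ∀ y ∈ B, g • y ∈ B) (p : Ideal R) [p.IsPrime]
    (hinj : Function.Injective (algebraMap R A))
    (hd : ∀ g ∈ K, g ≠ 1 → ∀ P : Ideal A, P.IsPrime → P.under R = p →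
      ∃ y : B, (y : A) - g • (y : A) ∉ P) :
    ∃ s : R, s ∉ p ∧ HasCoords B K s := by
  classical
  letI := Fintype.ofFinite K
  haveI : Algebra.IsIntegral R B :=
    ⟨fun b => (isIntegral_algHom_iff B.val Subtype.val_injective).mp (Algebra.IsIntegral.isIntegral _)⟩
  haveI : Algebra.IsIntegral B A := Algebra.IsIntegral.tower_top R
  let J : Submodule R (K → A) := pairSpan B K
  have hg : ∀ g : K, g ≠ 1 → ∃ s : R, s ∉ p ∧ ∃ f ∈ J, f 1 = algebraMap R A s ∧ f g = 0 := by
    intro g hg1
    let IB : Ideal B :=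
      { carrier := {b | ∃ f ∈ J, f 1 = (b : A) ∧ f g = 0}
        add_mem' := fun {a b} ⟨f, hf, h1, h2⟩ ⟨f', hf', h1', h2'⟩ =>
          ⟨f + f', J.add_mem hf hf', by simp [h1, h1'], by simp [h2, h2']⟩
        zero_mem' := ⟨0, J.zero_mem, rfl, rfl⟩
        smul_mem' := fun c b ⟨f, hf, h1, h2⟩ => by
          refine ⟨(fun σ : K => (c : A) * f σ), ?_, by simp [h1], by simp [h2]⟩
          rw [show (fun σ : K => (c : A) * f σ) =
            (fun σ : K => (c : A) * (σ : H) • ((1 : B) : A)) * f from by funext σ; simp]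
          exact mul_mem_pairSpan B K (Submodule.subset_span ⟨(c, 1), rfl⟩) hf }
    have hW : ∀ y : B, y - ⟨(g : H) • (y : A), hB g g.2 y y.2⟩ ∈ IB := fun y => by
      refine ⟨(fun σ : K => ((1 : B) : A) * (σ : H) • (y : A)) -
        (fun σ : K => ((⟨_, hB g g.2 y y.2⟩ : B) : A) * (σ : H) • ((1 : B) : A)),
        J.sub_mem (Submodule.subset_span ⟨(1, y), rfl⟩) (Submodule.subset_span ⟨(⟨_, hB g g.2 y y.2⟩, 1), rfl⟩),
        by simp, by simp⟩
    by_contra hne
    push Not at hne
    have hle : IB.comap (algebraMap R B) ≤ p := fun r hr => by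
      by_contra hrp
      obtain ⟨f, hf, h1, h2⟩ := hr
      exact hne r hrp f hf h1 h2
    obtain ⟨Q, hQI, hQ, hQp⟩ := Ideal.exists_ideal_over_prime_of_isIntegral p IB hle
    haveI := hQ
    obtain ⟨P, -, hP, hPQ⟩ := Ideal.exists_ideal_over_prime_of_isIntegral Q (⊥ : Ideal A)
      (fun b hb => by
        have hb0 : b = 0 := Subtype.val_injective (Ideal.mem_bot.mp hb)
        rw [hb0]; exact Q.zero_mem)
    obtain ⟨y, hy⟩ := hd g g.2 (fun h => hg1 (Subtype.ext h)) P hP (by
      show P.comap (algebraMap R A) = p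
      rw [IsScalarTower.algebraMap_eq R B A, ← Ideal.comap_comap, hPQ, hQp])
    refine hy ?_
    have := hQI (hW y)
    rw [← hPQ] at this
    exact this
  choose sg hsg fg hfg h1 h2 using fun g : {g : K // g ≠ 1} => hg g.1 g.2
  letI : Fintype {g : K // g ≠ 1} := Fintype.ofFinite _
  refine ⟨∏ g, sg g, fun h => ?_, ?_⟩
  · obtain ⟨g, -, hgp⟩ := Ideal.IsPrime.prod_mem_iff.mp h
    exact hsg g hgp
  let F : K → A := (fun σ : K => ((1 : B) : A) * (σ : H) • ((1 : B) : A)) * ∏ g, fg g
  have hF : F ∈ J := by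
    refine Finset.prod_induction fg
      (fun f => ∀ e ∈ J, e * f ∈ J) (fun f f' hf hf' e he => ?_) (fun e he => by rwa [mul_one])
      (fun g _ e he => mul_mem_pairSpan B K he (hfg g)) _
      (Submodule.subset_span ⟨(1, 1), rfl⟩)
    rw [← mul_assoc]
    exact hf' _ (hf e he)
  have hF1 : F 1 = algebraMap R A (∏ g, sg g) := by
    simp [F, Finset.prod_apply, h1, map_prod]
  have hF0 : ∀ σ : K, σ ≠ 1 → F σ = 0 := fun σ hσ => by
    simp only [F, Pi.mul_apply, Finset.prod_apply]
    rw [Finset.prod_eq_zero (Finset.mem_univ ⟨σ, hσ⟩) (h2 ⟨σ, hσ⟩), mul_zero]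
  obtain ⟨m, c, gq, hsum⟩ := Submodule.mem_span_set'.mp hF
  choose q hq using fun l => (gq l).2
  refine ⟨m, fun l => c l • (q l).1, fun l => (q l).2, fun a => ?_⟩
  have e1 : (∏ g, sg g) • a = ∑ σ : K, F σ * (σ : H) • a := by
    rw [Finset.sum_eq_single 1 (fun σ _ hσ => by rw [hF0 σ hσ, zero_mul])
      (fun h => absurd (Finset.mem_univ _) h), hF1, Algebra.smul_def]
    simp
  rw [e1, ← hsum]
  simp only [Finset.sum_apply, Pi.smul_apply, ← hq, Finset.sum_mul, tr, Finset.mul_sum,
    smul_mul', Subalgebra.coe_smul, smul_mul_assoc, mul_assoc]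
  rw [Finset.sum_comm]

theorem mul_mem_of_fixed (hcomm : ∀ g h : H, g * h = h * g) {B : Subalgebra R A}
    {K : Subgroup H} {s : R} (hs : HasCoords B K s) {S : Subalgebra R A} (hBS : B ≤ S)
    {L : Subgroup H} (hBL : ∀ y ∈ B, L ≤ MulAction.stabilizer H y) {t : R}
    (hS : ∀ a : A, L ⊔ K ≤ MulAction.stabilizer H a → t • a ∈ S) (a : A)
    (ha : L ≤ MulAction.stabilizer H a) : (t * s) • a ∈ S := by
  obtain ⟨m, x, y, h⟩ := hs
  rw [mul_smul, h, Finset.smul_sum]
  refine S.sum_mem fun l _ => ?_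
  rw [← mul_smul_comm]
  refine S.mul_mem (hBS (x l).2) (hS _ (sup_le ?_ (tr_fixed K _)))
  refine tr_fixed_of_commute hcomm K L _ fun k hk => ?_
  rw [MulAction.mem_stabilizer_iff, smul_mul', hBL _ (y l).2 hk, ha hk]

theorem exists_basis_independent [IsDomain A] (hcomm : ∀ g h : H, g * h = h * g)
    (hinj : Function.Injective (algebraMap R A))
    (hK : ∀ j, ∃ s : R, s ≠ 0 ∧ HasCoords (fx R A Gi j) (Gi j) s)
    (hfix : ∀ a : A, (∀ h : H, h • a = a) → a ∈ Set.range (algebraMap R A))
    (htop : ∀ j, Gi j ⊔ compl Gi j = ⊤) (hfree : ∀ j, Module.Free R (fx R A Gi j))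
    (hfin : ∀ j, Module.Finite R (fx R A Gi j)) (J : Finset (Fin n)) :
    ∃ (κ : Type v) (_ : Fintype κ) (v : κ → A),
      (∀ k, v k ∈ ⨆ j ∈ J, fx R A Gi j) ∧
      (∀ a ∈ (⨆ j ∈ J, fx R A Gi j : Subalgebra R A), a ∈ Submodule.span R (Set.range v)) ∧
      ∀ w : κ → A, (∀ k, (⨆ j ∈ J, Gi j : Subgroup H) ≤ MulAction.stabilizer H (w k)) →
        ∑ k, w k * v k = 0 → ∀ k, w k = 0 := by
  classical
  induction J using Finset.induction_on with
  | empty =>
    refine ⟨PUnit, inferInstance, fun _ => 1, fun _ => one_mem _, fun a ha => ?_, fun w _ h k => ?_⟩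
    · simp only [Finset.notMem_empty, not_false_eq_true, iSup_neg, iSup_bot] at ha
      obtain ⟨r, rfl⟩ := Algebra.mem_bot.mp ha
      rw [Algebra.algebraMap_eq_smul_one]
      exact Submodule.smul_mem _ _ (Submodule.subset_span ⟨PUnit.unit, rfl⟩)
    · simpa using h
  | insert j J hj ih =>
    obtain ⟨κ, _, v, hvS, hvspan, hvind⟩ := ih
    haveI := hfree j
    haveI := hfin j
    let e := Module.Free.chooseBasis R (fx R A Gi j)
    let ι := Module.Free.ChooseBasisIndex R (fx R A Gi j)
    have hsupS : (⨆ k ∈ insert j J, fx R A Gi k : Subalgebra R A) =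
        fx R A Gi j ⊔ ⨆ k ∈ J, fx R A Gi k := Finset.iSup_insert j J _
    refine ⟨ι × κ, inferInstance, fun q => (e q.1 : A) * v q.2, fun q => ?_, fun a ha => ?_, ?_⟩
    · rw [hsupS]
      exact mul_mem (le_sup_left (b := (⨆ k ∈ J, fx R A Gi k : Subalgebra R A)) (e q.1).2)
        (le_sup_right (a := fx R A Gi j) (hvS q.2))
    · rw [hsupS] at ha
      have ha' : a ∈ Subalgebra.toSubmodule (fx R A Gi j ⊔ ⨆ k ∈ J, fx R A Gi k) := ha
      rw [← Subalgebra.mul_toSubmodule] at ha'
      refine Submodule.mul_induction_on ha' (fun b hb c hc => ?_) fun x y hx hy =>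
        Submodule.add_mem _ hx hy
      have hb' : b ∈ Submodule.span R (Set.range fun i => ((e i : fx R A Gi j) : A)) := by
        have := Submodule.apply_mem_span_image_of_mem_span (fx R A Gi j).val.toLinearMap
          (e.mem_span ⟨b, hb⟩)
        rw [← Set.range_comp] at this
        exact this
      have := Submodule.mul_mem_mul hb' (hvspan c hc)
      rw [Submodule.span_mul_span] at this
      refine Submodule.span_mono ?_ this
      rintro _ ⟨_, ⟨i, rfl⟩, _, ⟨k, rfl⟩, rfl⟩
      exact ⟨(i, k), rfl⟩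
    · intro w hw h q
      have hJj : (⨆ k ∈ J, Gi k : Subgroup H) ≤ compl Gi j :=
        iSup₂_le fun k hk => le_compl fun e => hj (e ▸ hk)
      have hw' : ∀ r, (⨆ k ∈ J, Gi k : Subgroup H) ≤ MulAction.stabilizer H (w r) ∧
          Gi j ≤ MulAction.stabilizer H (w r) := fun r => by
        have := hw r
        rw [Finset.iSup_insert] at this
        exact ⟨le_sup_right.trans this, le_sup_left.trans this⟩
      have h0 : ∀ k, (∑ i, w (i, k) * (e i : A)) = 0 := by
        refine hvind _ (fun k => ?_) ?_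
        · intro g hg
          rw [MulAction.mem_stabilizer_iff, Finset.smul_sum]
          refine Finset.sum_congr rfl fun i _ => ?_
          rw [smul_mul', (hw' _).1 hg, (mem_fix_iff _ _).mp (e i).2 (hJj hg)]
        · rw [← h, Fintype.sum_prod_type, Finset.sum_comm]
          simp only [Finset.sum_mul, mul_assoc]
      obtain ⟨s, hs0, m, x, y, hxy⟩ := hK j
      have ht : ∀ (l : Fin m) (b : fx R A Gi j), ∃ r : R,
          tr (Gi j) ((y l : A) * (b : A)) = algebraMap R A r := fun l b => by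
        obtain ⟨r, hr⟩ := hfix (tr (Gi j) ((y l : A) * (b : A))) fun g => by
          have htop' : (⊤ : Subgroup H) ≤ MulAction.stabilizer H (tr (Gi j) ((y l : A) * (b : A))) := by
            rw [← htop j]
            refine sup_le (tr_fixed _ _) (tr_fixed_of_commute hcomm _ _ _ fun g hg => ?_)
            rw [MulAction.mem_stabilizer_iff, smul_mul', (mem_fix_iff _ _).mp (y l).2 hg,
              (mem_fix_iff _ _).mp b.2 hg]
          exact htop' (Subgroup.mem_top g)
        exact ⟨r, hr.symm⟩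
      choose t ht using ht
      obtain ⟨i₀, k₀⟩ := q
      have hcoord : ∀ i, s • e i = ∑ l, t l (e i) • x l := fun i => Subtype.ext (by
        rw [Subalgebra.coe_smul, hxy, AddSubmonoidClass.coe_finsetSum]
        refine Finset.sum_congr rfl fun l _ => ?_
        rw [Subalgebra.coe_smul, ht, Algebra.smul_def, mul_comm])
      have hdiag : ∀ i, algebraMap R A (if i = i₀ then s else 0) =
          ∑ l, algebraMap R A (e.repr (x l) i₀) * tr (Gi j) ((y l : A) * (e i : A)) := fun i => by
        have := congrArg (fun b => e.repr b i₀) (hcoord i)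
        simp only [map_smul, map_sum, Finsupp.coe_finsetSum, Finset.sum_apply, Finsupp.smul_apply,
          Module.Basis.repr_self, Finsupp.single_apply, smul_eq_mul, mul_ite, mul_one, mul_zero] at this
        rw [this, map_sum]
        exact Finset.sum_congr rfl fun l _ => by rw [map_mul, ht, mul_comm]
      letI := Fintype.ofFinite (Gi j)
      have hz : algebraMap R A s * w (i₀, k₀) = 0 := by
        have e1 : algebraMap R A s * w (i₀, k₀) =
            ∑ i, algebraMap R A (if i = i₀ then s else 0) * w (i, k₀) := by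
          simp [apply_ite (algebraMap R A), ite_mul]
        rw [e1]
        simp only [hdiag, Finset.sum_mul, tr, Finset.mul_sum]
        rw [Finset.sum_comm]
        refine Finset.sum_eq_zero fun l _ => ?_
        rw [Finset.sum_comm]
        refine Finset.sum_eq_zero fun σ _ => ?_
        have e2 : ∑ i, ((σ : H) • ((y l : A) * (e i : A))) * w (i, k₀) =
            (σ : H) • ((y l : A) * ∑ i, w (i, k₀) * (e i : A)) := by
          rw [Finset.mul_sum, Finset.smul_sum]
          refine Finset.sum_congr rfl fun i _ => ?_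
          have hwσ : (σ : H) • w (i, k₀) = w (i, k₀) := (hw' _).2 σ.2
          rw [show (y l : A) * (w (i, k₀) * (e i : A)) = w (i, k₀) * ((y l : A) * (e i : A)) from
            mul_left_comm .., smul_mul' (σ : H) (w (i, k₀)), hwσ, mul_comm]
        simp only [mul_assoc, ← Finset.mul_sum]
        rw [e2, h0, mul_zero, smul_zero, mul_zero]
      exact (mul_eq_zero.mp hz).resolve_left fun h' => hs0 (hinj (h'.trans (map_zero _).symm))

end Coordinates

section Main

variable [Finite H]

theorem exists_y_notMem (hcomm : ∀ g h : H, g * h = h * g)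
    (hdisj : ∀ j, ∀ g ∈ Gi j, g ∈ compl Gi j → g = 1) (j : Fin n) (P : Ideal A) [P.IsPrime]
    (hP : P.inertia H ≤ compl Gi j) (g : H) (hg : g ∈ Gi j) (hg1 : g ≠ 1) :
    ∃ y : fx R A Gi j, (y : A) - g • (y : A) ∉ P := by
  by_contra hne
  push Not at hne
  let B := fx R A Gi j
  let N := compl Gi j
  haveI : Algebra.IsInvariant B A N := ⟨fun a ha => ⟨⟨a, ha⟩, rfl⟩⟩
  haveI : SMulCommClass N B A := ⟨fun k b a => by
    show (k : H) • ((b : A) * a) = (b : A) * (k : H) • a
    rw [smul_mul', (mem_fix_iff _ _).mp b.2 k.2]⟩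
  have hinvB : ∀ h : H, ∀ y : B, h • (y : A) ∈ B := fun h y => by
    refine (mem_fix_iff _ _).mpr fun k hk => ?_
    rw [MulAction.mem_stabilizer_iff, smul_smul, hcomm, ← smul_smul, (mem_fix_iff _ _).mp y.2 hk]
  haveI : (g • P).IsPrime := ‹P.IsPrime›.smul g
  have hunder : P.under B = (g • P).under B := by
    ext y
    simp only [Ideal.under, Ideal.mem_comap]
    show (y : A) ∈ P ↔ (y : A) ∈ g • P
    rw [Ideal.mem_pointwise_smul_iff_inv_smul_mem]
    have h := hne ⟨g⁻¹ • (y : A), hinvB _ y⟩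
    simp only [smul_inv_smul] at h
    exact ⟨fun hy => by simpa using P.add_mem h hy, fun hy => by simpa using P.sub_mem hy h⟩
  obtain ⟨k, hk⟩ := Algebra.IsInvariant.exists_smul_of_under_eq B A N P (g • P) hunder
  let h := (k : H)⁻¹ * g
  have hhP : h • P = P := by
    show ((k : H)⁻¹ * g) • P = P
    rw [mul_smul, hk]
    exact inv_smul_smul (k : H) P
  have hfixB : ∀ y : B, h • (y : A) - (y : A) ∈ P := fun y => by
    show ((k : H)⁻¹ * g) • (y : A) - (y : A) ∈ P
    rw [mul_smul, (mem_fix_iff (compl Gi j) _).mp (hinvB g y) (Subgroup.inv_mem _ k.2)]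
    simpa using P.neg_mem (hne y)
  haveI : P.LiesOver (P.under B) := ⟨rfl⟩
  have hmapP : P = P.map (MulSemiringAction.toRingEquiv H A h : A →+* A) := hhP.symm
  let F₀ : (A ⧸ P) ≃+* (A ⧸ P) := Ideal.quotientEquiv P P (MulSemiringAction.toRingEquiv H A h) hmapP
  let F : (A ⧸ P) ≃ₐ[B ⧸ P.under B] (A ⧸ P) := AlgEquiv.ofRingEquiv (f := F₀) (fun x => by
    obtain ⟨y, rfl⟩ := Ideal.Quotient.mk_surjective x
    show Ideal.Quotient.mk P (h • (y : A)) = Ideal.Quotient.mk P (y : A)
    exact Ideal.Quotient.eq.mpr (hfixB y))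
  obtain ⟨τ, hτ⟩ := Ideal.Quotient.stabilizerHom_surjective N (P.under B) P F
  have hmem : ((τ : N) : H)⁻¹ * h ∈ P.inertia H := fun a => by
    have hτP : ((τ : N) : H) • P = P := τ.2
    have := AlgEquiv.congr_fun hτ (Ideal.Quotient.mk P a)
    change Ideal.Quotient.mk P (((τ : N) : H) • a) = Ideal.Quotient.mk P (h • a) at this
    have h' := P.neg_mem (Ideal.Quotient.eq.mp this)
    have h'' := Ideal.smul_mem_pointwise_smul (((τ : N) : H)⁻¹) _ P h'
    rw [inv_smul_eq_iff.mpr hτP.symm, neg_sub, smul_sub, inv_smul_smul, smul_smul] at h''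
    exact h''
  have h1 : g ∈ N := by
    have hh : h ∈ N := by
      have := Subgroup.mul_mem _ (τ : N).2 (hP hmem)
      rwa [mul_inv_cancel_left] at this
    have := Subgroup.mul_mem _ k.2 hh
    rwa [mul_inv_cancel_left] at this
  exact hg1 (hdisj j g hg h1)

theorem inertia_smul (hcomm : ∀ g h : H, g * h = h * g) (P : Ideal A) (g : H) :
    (g • P).inertia H = P.inertia H := by
  ext σ
  show (∀ a, σ • a - a ∈ g • P) ↔ ∀ a, σ • a - a ∈ P
  simp only [Ideal.mem_pointwise_smul_iff_inv_smul_mem, smul_sub, smul_smul]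
  constructor
  · intro h a
    have := h (g • a)
    simpa [smul_smul, mul_assoc, hcomm σ g] using this
  · intro h a
    have := h (g⁻¹ • a)
    rwa [smul_smul, hcomm σ] at this

theorem height_eq_one [IsDomain A] [IsDomain R] [IsNoetherianRing A] [Algebra.IsIntegral R A]
    (hinj : Function.Injective (algebraMap R A)) (p : Ideal R) [p.IsPrime] (hp : p.height = 1)
    (P : Ideal A) [P.IsPrime] (hP : P.under R = p) : P.height = 1 := by
  refine le_antisymm ?_ ?_
  · rw [← hp, ← hP]
    refine ((PrimeSpectrum.height_eq_orderHeight ⟨P, inferInstance⟩).trans_le ?_).trans_eq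
      (PrimeSpectrum.height_eq_orderHeight ⟨P.under R, inferInstance⟩).symm
    exact Order.height_le_height_apply_of_strictMono _
      (DimLib.strictMono_comap_of_isIntegral (R := R) (S := A)) ⟨P, inferInstance⟩
  · refine Order.one_le_iff_pos.mpr (pos_iff_ne_zero.mpr fun h0 => ?_)
    rw [Ideal.height_eq_zero_iff, IsDomain.minimalPrimes_eq_singleton_bot, Set.mem_singleton_iff] at h0
    have hp0 : p = ⊥ := by
      rw [← hP, h0]
      exact (RingHom.injective_iff_ker_eq_bot _).mp hinj
    rw [hp0, Ideal.height_bot] at hp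
    exact zero_ne_one hp

/-- The invariant rings of the complementary subgroups generate. -/
theorem iSup_fix_eq_top [IsRegularLocalRing R] [IsDomain A] [Module.Finite R A] [FaithfulSMul H A]
    (hinj : Function.Injective (algebraMap R A))
    (hfix : ∀ a : A, (∀ h : H, h • a = a) → a ∈ Set.range (algebraMap R A))
    (hcomm : ∀ g h : H, g * h = h * g)
    (p : ℕ) (hcard : Nat.card H = p ^ n) (hGi : ∀ i, Nat.card (Gi i) = p)
    (hsup : (⨆ i, Gi i) = ⊤)
    (hMR3 : ∀ P : Ideal A, P.IsPrime → P.height = 1 → P.inertia H ≠ ⊥ → ∃ i, P.inertia H = Gi i)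
    (hfree : ∀ i, Module.Free R (fx R A Gi i)) : (⨆ i, fx R A Gi i) = ⊤ := by
  classical
  obtain ⟨htop, hdisj⟩ := group_facts hcomm p hcard hGi hsup
  haveI := CAlgH3.isDomain_of_isRegularLocalRing R
  haveI := CAlgH3.isIntegrallyClosed_of_regular R
  haveI : Algebra.IsIntegral R A := Algebra.IsIntegral.of_finite R A
  haveI : IsNoetherianRing A := IsNoetherianRing.of_finite R A
  haveI : IsNoetherian R A := isNoetherian_of_isNoetherianRing_of_finite R A
  have hfin : ∀ j, Module.Finite R (fx R A Gi j) := fun j =>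
    Module.Finite.of_injective (fx R A Gi j).val.toLinearMap Subtype.val_injective
  have hstab : ∀ j, ∀ g ∈ Gi j, ∀ y ∈ fx R A Gi j, g • y ∈ fx R A Gi j := fun j g _ y hy => by
    refine (mem_fix_iff _ _).mpr fun k hk => ?_
    rw [MulAction.mem_stabilizer_iff, smul_smul, hcomm, ← smul_smul, (mem_fix_iff _ _).mp hy hk]
  have hK0 : ∀ j, ∃ s : R, s ≠ 0 ∧ HasCoords (fx R A Gi j) (Gi j) s := fun j => by
    obtain ⟨s, hs, hc⟩ := exists_coords (fx R A Gi j) (Gi j) (hstab j) (⊥ : Ideal R) hinj
      fun g hg hg1 P hP hP0 => by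
        haveI := hP
        refine exists_y_notMem hcomm hdisj j P ?_ g hg hg1
        have hPb : P = ⊥ := Ideal.eq_bot_of_comap_eq_bot hP0
        intro σ hσ
        have : σ = 1 := eq_of_smul_eq_smul (α := A) fun a => by
          rw [one_smul, ← sub_eq_zero, ← Ideal.mem_bot, ← hPb]
          exact hσ a
        rw [this]; exact Subgroup.one_mem _
    exact ⟨s, fun h => hs (by simp [h]), hc⟩
  let S : Subalgebra R A := ⨆ i, fx R A Gi i
  have hBS : ∀ j, fx R A Gi j ≤ S := le_iSup (fun i => fx R A Gi i)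
  have iter : ∀ (q : Ideal R) [q.IsPrime] (J : Finset (Fin n)),
      (∀ j ∈ J, ∃ s : R, s ∉ q ∧ HasCoords (fx R A Gi j) (Gi j) s) →
      ∀ L : Subgroup H, (∀ j ∈ J, L ≤ compl Gi j) →
      (∀ a : A, L ⊔ (⨆ j ∈ J, Gi j) ≤ MulAction.stabilizer H a → a ∈ S) →
      ∃ s : R, s ∉ q ∧ ∀ a : A, L ≤ MulAction.stabilizer H a → s • a ∈ S := by
    intro q _ J
    induction J using Finset.induction_on with
    | empty => exact fun _ L _ h => ⟨1, fun h1 => Ideal.IsPrime.ne_top ‹_› ((Ideal.eq_top_iff_one _).mpr h1),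
        fun a ha => by rw [one_smul]; exact h a (sup_le ha (by simp))⟩
    | insert j J hj ih =>
      intro hJ L hL hend
      obtain ⟨s, hs, hc⟩ := hJ j (Finset.mem_insert_self j J)
      obtain ⟨t, ht, htS⟩ := ih (fun k hk => hJ k (Finset.mem_insert_of_mem hk)) (L ⊔ Gi j)
        (fun k hk => sup_le (hL k (Finset.mem_insert_of_mem hk)) (le_compl fun e => hj (e ▸ hk)))
        fun a ha => hend a (by rwa [Finset.iSup_insert, ← sup_assoc])
      refine ⟨t * s, fun h => (Ideal.IsPrime.mem_or_mem ‹_› h).elim ht hs, fun a ha => ?_⟩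
      exact mul_mem_of_fixed hcomm hc (hBS j)
        (fun y hy => (hL j (Finset.mem_insert_self j J)).trans ((mem_fix_iff _ _).mp hy)) htS a ha
  have hbotmem : ∀ a : A, (⊥ : Subgroup H) ⊔ (⨆ j ∈ (Finset.univ : Finset (Fin n)), Gi j) ≤
      MulAction.stabilizer H a → a ∈ S := fun a ha => by
    have : ∀ h : H, h • a = a := fun h => ha (by simp [hsup])
    obtain ⟨r, rfl⟩ := hfix a this
    exact S.algebraMap_mem r
  have hloc : ∀ (q : Ideal R) [q.IsPrime], q.height = 1 →
      ∃ s : R, s ∉ q ∧ ∀ a : A, s • a ∈ S := by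
    intro q _ hq
    have hin : ∀ j, ∀ (P₀ : Ideal A), P₀.IsPrime → P₀.under R = q → P₀.inertia H ≤ compl Gi j →
        ∃ s : R, s ∉ q ∧ HasCoords (fx R A Gi j) (Gi j) s := fun j P₀ hP₀ hP₀q hle =>
      exists_coords (fx R A Gi j) (Gi j) (hstab j) q hinj fun g hg hg1 P hP hPq => by
        haveI := hP
        haveI := hP₀
        haveI : Algebra.IsInvariant R A H := ⟨hfix⟩
        obtain ⟨h, rfl⟩ := Algebra.IsInvariant.exists_smul_of_under_eq R A H P₀ P (hP₀q.trans hPq.symm)
        exact exists_y_notMem hcomm hdisj j _ (by rwa [inertia_smul hcomm]) g hg hg1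
    obtain ⟨P₀, -, hP₀, hP₀q⟩ := Ideal.exists_ideal_over_prime_of_isIntegral q (⊥ : Ideal A)
      (fun r hr => by
        rw [Ideal.mem_comap, Ideal.mem_bot] at hr
        rw [hinj (hr.trans (map_zero _).symm)]; exact q.zero_mem)
    haveI := hP₀
    by_cases htriv : P₀.inertia H = ⊥
    · obtain ⟨s, hs, hS⟩ := iter q Finset.univ
        (fun j _ => hin j P₀ hP₀ hP₀q (htriv ▸ bot_le)) ⊥ (fun _ _ => bot_le) hbotmem
      exact ⟨s, hs, fun a => hS a bot_le⟩
    · obtain ⟨i, hi⟩ := hMR3 P₀ hP₀ (height_eq_one hinj q hq P₀ hP₀q) htriv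
      obtain ⟨s, hs, hS⟩ := iter q (Finset.univ.erase i)
        (fun j hj => hin j P₀ hP₀ hP₀q (hi ▸ le_compl (Finset.ne_of_mem_erase hj).symm)) ⊥
        (fun _ _ => bot_le)
        (fun a ha => hBS i ((mem_fix_iff _ _).mpr (le_sup_right.trans ha)))
      exact ⟨s, hs, fun a => hS a bot_le⟩
  obtain ⟨κ, _, v, hvS, hvspan, hvind⟩ :=
    exists_basis_independent hcomm hinj hK0 hfix htop hfree hfin Finset.univ
  have hSeq : (⨆ j ∈ (Finset.univ : Finset (Fin n)), fx R A Gi j : Subalgebra R A) = S := by simp [S]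
  rw [hSeq] at hvS hvspan
  have hind : ∀ c : κ → R, ∑ k, c k • v k = 0 → ∀ k, c k = 0 := fun c hc k => hinj (by
    rw [map_zero]
    exact hvind (fun k => algebraMap R A (c k)) (fun k g _ => smul_algebraMap g (c k))
      (by simpa [Algebra.smul_def] using hc) k)
  refine eq_top_iff.mpr fun a _ => ?_
  obtain ⟨s₀, hs₀, hs₀S⟩ := iter (⊥ : Ideal R) Finset.univ
    (fun j _ => by
      obtain ⟨s, hs, hc⟩ := hK0 j
      exact ⟨s, by simpa using hs, hc⟩) ⊥ (fun _ _ => bot_le) hbotmem
  obtain ⟨c, hc⟩ := (Submodule.mem_span_range_iff_exists_fun R).mp (hvspan _ (hs₀S a bot_le))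
  have hdvd : ∀ k, ∃ d : R, c k = s₀ * d := by
    intro k
    have hs0 : algebraMap R (FractionRing R) s₀ ≠ 0 := fun h => hs₀ (by
      rw [Ideal.mem_bot]; exact IsFractionRing.injective R (FractionRing R) (h.trans (map_zero _).symm))
    obtain ⟨d, hd⟩ := CAlgMisc2.mem_range_of_forall_height_one
      (algebraMap R (FractionRing R) (c k) / algebraMap R (FractionRing R) s₀) fun q _ hq => by
        obtain ⟨s, hs, hS⟩ := hloc q hq
        obtain ⟨c', hc'⟩ := (Submodule.mem_span_range_iff_exists_fun R).mp (hvspan _ (hS a))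
        refine ⟨c' k, s, hs, ?_⟩
        have heq : ∑ k, (s * c k - s₀ * c' k) • v k = 0 := by
          simp only [sub_smul, Finset.sum_sub_distrib, mul_smul, ← Finset.smul_sum]
          rw [hc, hc', smul_comm, sub_self]
        rw [div_mul_eq_mul_div, div_eq_iff hs0, ← map_mul, ← map_mul]
        exact congrArg _ (by linear_combination hind _ heq k)
    exact ⟨d, IsFractionRing.injective R (FractionRing R) (by
      rw [map_mul, hd, mul_div_cancel₀ _ hs0])⟩
  choose d hd using hdvd
  have ha : a = ∑ k, d k • v k := by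
    rw [← sub_eq_zero]
    refine (mul_eq_zero.mp (?_ : algebraMap R A s₀ * (a - ∑ k, d k • v k) = 0)).resolve_left
      fun h => hs₀ (by rw [Ideal.mem_bot]; exact hinj (h.trans (map_zero _).symm))
    rw [mul_sub, ← Algebra.smul_def, ← Algebra.smul_def, Finset.smul_sum]
    simp only [← mul_smul, ← hd]
    rw [hc, sub_self]
  show a ∈ S
  rw [ha]
  exact S.sum_mem fun k _ => S.smul_mem (hvS k) _

end Main

end Groth.Agent.WildLib5

end
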