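import Groth.Agent.CAlgH3.MiracleFlat
import Groth.Agent.CAlgH3.RegularHom
import Groth.Agent.CAlgH3.RegularCore
import Groth.Agent.DimLib.Algebra
import Mathlib.RingTheory.TensorProduct.Maps

/-!
# A regular finite algebra that is a coproduct of subalgebras

`free_and_regular_of_coprod`: if a regular local ring `A`, finite over a regular local ring `R`, is
the coproduct of subalgebras `B i`, then every `B i` is free over `R` and regular.
-/

set_option autoImplicit false
set_option linter.unusedSectionVars false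

noncomputable section

open TensorProduct IsLocalRing

universe u v

namespace Groth.Agent.WildLib5

/-- A regular local ring finite over a regular local subring is free over it. -/
theorem free_of_regular_finite {R : Type u} [CommRing R] [IsRegularLocalRing R] (A : Type v)
    [CommRing A] [IsRegularLocalRing A] [Algebra R A] [Module.Finite R A]
    (hinj : Function.Injective (algebraMap R A)) : Module.Free R A := by
  let S : Subalgebra R A := ⊥
  let e : R ≃ₐ[R] S := (Algebra.botEquivOfInjective hinj).symm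
  haveI : IsRegularLocalRing S := IsRegularLocalRing.of_ringEquiv e.toRingEquiv
  haveI : Module.Finite S A := Module.Finite.of_restrictScalars_finite R S A
  haveI : Algebra.IsIntegral S A := Algebra.IsIntegral.of_finite S A
  have hSinj : Function.Injective (algebraMap S A) := Subtype.val_injective
  haveI : IsLocalHom (algebraMap S A) := RingHom.IsIntegral.isLocalHom
    (Algebra.IsIntegral.isIntegral (R := S) (A := A)) hSinj
  haveI := CAlgH3.isCohenMacaulayLocalRing_of_regular A
  haveI hflat : Module.Flat S A := by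
    refine CAlgH3.flat_of_dim_eq _ S rfl A ?_
    have h0 : ringKrullDim (A ⧸ (maximalIdeal S).map (algebraMap S A)) = 0 := by
      have hne : (maximalIdeal S).map (algebraMap S A) ≠ ⊤ :=
        ne_top_of_le_ne_top (maximalIdeal.isMaximal A).ne_top
          (IsLocalRing.map_maximalIdeal_le _)
      haveI := Ideal.Quotient.nontrivial_iff.mpr hne
      haveI : Module.Finite (S ⧸ maximalIdeal S) (A ⧸ (maximalIdeal S).map (algebraMap S A)) :=
        Module.Finite.of_restrictScalars_finite S _ _
      letI := Ideal.Quotient.field (maximalIdeal S)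
      haveI : IsArtinianRing (A ⧸ (maximalIdeal S).map (algebraMap S A)) :=
        IsArtinianRing.of_finite (S ⧸ maximalIdeal S) _
      exact (ringKrullDimZero_iff_ringKrullDim_eq_zero).mp inferInstance
    rw [h0, add_zero, DimLib.ringKrullDim_eq_of_isIntegral hSinj]
  haveI : Module.Free S A := Module.free_of_flat_of_isLocalRing
  haveI : Module.Free R S := Module.Free.of_equiv e.toLinearEquiv
  exact Module.Free.trans (R := R) (S := S) (M := A)

variable {R : Type u} [CommRing R] {A : Type v} [CommRing A] [Algebra R A]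

/-- A subalgebra with a complement for which `A` is the tensor product is a projective module. -/
theorem projective_of_inverse [IsRegularLocalRing R] [Module.Free R A] [Module.Finite R A]
    [Nontrivial A] (hres : ∃ l : A →ₗ[R] R, l 1 = 1) (B C : Subalgebra R A)
    (ψ : A →ₐ[R] B ⊗[R] C) (hB : ∀ b : B, ψ b = b ⊗ₜ[R] 1) : Module.Projective R B := by
  obtain ⟨l, hl⟩ := hres
  let f : A →ₗ[R] B :=
    (TensorProduct.rid R B).toLinearMap ∘ₗ
      (TensorProduct.map LinearMap.id (l ∘ₗ C.val.toLinearMap)) ∘ₗ ψ.toLinearMap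
  refine Module.Projective.of_split B.val.toLinearMap f (LinearMap.ext fun b => ?_)
  show TensorProduct.rid R B (TensorProduct.map LinearMap.id (l ∘ₗ C.val.toLinearMap) (ψ b)) = b
  rw [hB, TensorProduct.map_tmul, TensorProduct.rid_tmul]
  simp [hl]

theorem exists_functional [IsLocalRing R] [Module.Free R A] [Module.Finite R A] [IsLocalRing A]
    [IsLocalHom (algebraMap R A)] : ∃ l : A →ₗ[R] R, l 1 = 1 := by
  let b := Module.Free.chooseBasis R A
  by_contra hc
  push Not at hc
  have hmem : ∀ i, b.repr (1 : A) i ∈ maximalIdeal R := by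
    intro i hu
    obtain ⟨c, hc'⟩ := hu.exists_left_inv
    exact hc (c • b.coord i) (by simpa using hc')
  have h1 : (1 : A) ∈ (maximalIdeal R).map (algebraMap R A) := by
    rw [← b.sum_repr 1]
    refine Ideal.sum_mem _ fun i _ => ?_
    rw [Algebra.smul_def]
    exact Ideal.mul_mem_right _ _ (Ideal.mem_map_of_mem _ (hmem i))
  exact (maximalIdeal.isMaximal A).ne_top
    ((Ideal.eq_top_iff_one _).mpr (IsLocalRing.map_maximalIdeal_le _ h1))

/-- The main statement. -/
theorem free_and_regular_of_coprod [IsRegularLocalRing R] [IsRegularLocalRing A] [Module.Finite R A]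
    (hinj : Function.Injective (algebraMap R A)) {ι : Type} (B : ι → Subalgebra R A)
    (hcoprod : ∀ (X : Type (max u v)) [CommRing X] [Algebra R X] (φ : ∀ i, B i →ₐ[R] X),
      ∃! ψ : A →ₐ[R] X, ∀ i (x : B i), ψ x = φ i x) (i : ι) :
    Module.Free R (B i) ∧ IsRegularLocalRing (B i) := by
  classical
  haveI := free_of_regular_finite A hinj
  haveI : Algebra.IsIntegral R A := Algebra.IsIntegral.of_finite R A
  haveI : IsLocalHom (algebraMap R A) :=
    RingHom.IsIntegral.isLocalHom (Algebra.IsIntegral.isIntegral (R := R) (A := A)) hinj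
  let C : Subalgebra R A := ⨆ j ∈ ({i}ᶜ : Set ι), B j
  have hBC : ∀ j, j ≠ i → B j ≤ C := fun j hj =>
    le_iSup₂ (f := fun j (_ : j ∈ ({i}ᶜ : Set ι)) => B j) j hj
  let T := (B i) ⊗[R] C
  let eT : ULift.{u} T ≃ₐ[R] T := ULift.algEquiv
  let φ : ∀ j, B j →ₐ[R] ULift.{u} T := fun j => eT.symm.toAlgHom.comp
    (if h : j = i then
      (Algebra.TensorProduct.includeLeft : B i →ₐ[R] T).comp (Subalgebra.inclusion (h ▸ le_rfl))
    else Algebra.TensorProduct.includeRight.comp (Subalgebra.inclusion (hBC j h)))
  obtain ⟨ψ₀, hψ₀, -⟩ := hcoprod (ULift.{u} T) φ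
  let ψ : A →ₐ[R] T := eT.toAlgHom.comp ψ₀
  have hψi : ∀ b : B i, ψ b = b ⊗ₜ[R] 1 := fun b => by
    simp [ψ, hψ₀ i b, φ, Subalgebra.inclusion]
  have hψj : ∀ j (h : j ≠ i) (b : B j), ψ b = 1 ⊗ₜ[R] (⟨b, hBC j h b.2⟩ : C) := fun j h b => by
    simp [ψ, hψ₀ j b, φ, h, Subalgebra.inclusion]
  let μ : T →ₐ[R] A := Algebra.TensorProduct.lift (B i).val C.val (fun _ _ => Commute.all _ _)
  have hμl : ∀ b : B i, μ (b ⊗ₜ[R] (1 : C)) = b := fun b => by
    show μ (b ⊗ₜ[R] (1 : C)) = (B i).val b
    rw [Algebra.TensorProduct.lift_tmul, map_one, mul_one]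
  have hμr : ∀ c : C, μ ((1 : B i) ⊗ₜ[R] c) = c := fun c => by
    show μ ((1 : B i) ⊗ₜ[R] c) = C.val c
    rw [Algebra.TensorProduct.lift_tmul, map_one, one_mul]
  have hμψ : μ.comp ψ = AlgHom.id R A := by
    let eA : ULift.{u} A ≃ₐ[R] A := ULift.algEquiv
    obtain ⟨θ, -, huniq⟩ := hcoprod (ULift.{u} A) fun j => eA.symm.toAlgHom.comp (B j).val
    have h1 : eA.symm.toAlgHom.comp (μ.comp ψ) = θ := huniq _ fun j b => by
      rcases eq_or_ne j i with rfl | h
      · show eA.symm (μ (ψ (b : A))) = eA.symm (b : A)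
        rw [hψi, hμl]
      · show eA.symm (μ (ψ (b : A))) = eA.symm (b : A)
        rw [hψj j h, hμr]
    have h2 : eA.symm.toAlgHom.comp (AlgHom.id R A) = θ := huniq _ fun j b => rfl
    exact AlgHom.ext fun a => eA.symm.injective (AlgHom.congr_fun (h1.trans h2.symm) a)
  have hψC : ∀ c : C, ψ c = (1 : B i) ⊗ₜ[R] c := by
    let E : Subalgebra R C := AlgHom.equalizer (ψ.comp C.val)
      (Algebra.TensorProduct.includeRight : C →ₐ[R] T)
    have hC : C ≤ E.map C.val := by
      refine iSup₂_le fun j hj => ?_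
      exact fun x hx => ⟨⟨x, hBC j hj hx⟩, hψj j hj ⟨x, hx⟩, rfl⟩
    intro c
    obtain ⟨c', hc', hcc⟩ := hC c.2
    obtain rfl : c' = c := Subtype.ext hcc
    exact hc'
  have hψμ : ψ.comp μ = AlgHom.id R T := Algebra.TensorProduct.ext
    (AlgHom.ext fun b => by
      show ψ (μ (b ⊗ₜ[R] (1 : C))) = b ⊗ₜ[R] 1
      rw [hμl, hψi])
    (AlgHom.ext fun c => by
      show ψ (μ ((1 : B i) ⊗ₜ[R] c)) = (1 : B i) ⊗ₜ[R] c
      rw [hμr, hψC])
  let e : A ≃ₐ[R] T := AlgEquiv.ofAlgHom ψ μ hψμ hμψ
  haveI : IsNoetherianRing R := inferInstance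
  haveI : IsNoetherian R A := isNoetherian_of_isNoetherianRing_of_finite R A
  haveI : Module.Finite R (B i) :=
    Module.Finite.of_injective (B i).val.toLinearMap Subtype.val_injective
  haveI : Module.Finite R C := Module.Finite.of_injective C.val.toLinearMap Subtype.val_injective
  have hl := exists_functional (R := R) (A := A)
  haveI : Module.Projective R (B i) := projective_of_inverse hl (B i) C ψ hψi
  haveI : Module.Projective R C := by
    refine projective_of_inverse hl C (B i) ((Algebra.TensorProduct.comm R (B i) C).toAlgHom.comp ψ)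
      fun c => ?_
    simp [hψC]
  refine ⟨Module.free_of_flat_of_isLocalRing, ?_⟩
  haveI : IsNoetherianRing (B i) := IsNoetherianRing.of_finite R (B i)
  haveI : Algebra.IsIntegral (B i) A := Algebra.IsIntegral.tower_top R
  have hBinj : Function.Injective (algebraMap (B i) A) := Subtype.val_injective
  haveI : IsLocalHom (algebraMap (B i) A) :=
    RingHom.IsIntegral.isLocalHom (Algebra.IsIntegral.isIntegral (R := B i) (A := A)) hBinj
  haveI : IsLocalRing (B i) := RingHom.domain_isLocalRing (algebraMap (B i) A)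
  let e' : T ≃ₐ[B i] A :=
    { e.symm with
      commutes' := fun b => by
        show μ (b ⊗ₜ[R] (1 : C)) = (b : A)
        exact hμl b }
  haveI : Module.Flat (B i) A := Module.Flat.of_linearEquiv e'.symm.toLinearEquiv
  exact CAlgH3.isRegularLocalRing_of_flat A

end Groth.Agent.WildLib5

end
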